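import Cfsg.Agent.Lib.M24Pres.Data.Log

/-! Checks, part 1 (generated by tools/j4/m24side/gen.py). -/

set_option autoImplicit false
set_option maxRecDepth 100000

namespace Cfsg.Agent.M24Pres.Certs

theorem facts4 : allRange (checkFact Data.theLog) 8001 2000 = true := by decide +kernel

theorem facts5 : allRange (checkFact Data.theLog) 10001 2000 = true := by decide +kernel

theorem facts6 : allRange (checkFact Data.theLog) 12001 2000 = true := by decide +kernel

theorem facts7 : allRange (checkFact Data.theLog) 14001 2000 = true := by decide +kernel

end Cfsg.Agent.M24Pres.Certs
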