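import Cfsg.Agent.Lib.M24Pres.Data.Log

/-! Checks, part 10 (generated by tools/j4/m24side/gen.py). -/

set_option autoImplicit false
set_option maxRecDepth 100000

namespace Cfsg.Agent.M24Pres.Certs

theorem facts40 : allRange (checkFact Data.theLog) 80001 2000 = true := by decide +kernel

theorem facts41 : allRange (checkFact Data.theLog) 82001 2000 = true := by decide +kernel

theorem facts42 : allRange (checkFact Data.theLog) 84001 2000 = true := by decide +kernel

theorem facts43 : allRange (checkFact Data.theLog) 86001 574 = true := by decide +kernel

end Cfsg.Agent.M24Pres.Certs
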