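import Cfsg.Agent.Lib.M24Pres.Data.Log

/-! Checks, part 2 (generated by tools/j4/m24side/gen.py). -/

set_option autoImplicit false
set_option maxRecDepth 100000

namespace Cfsg.Agent.M24Pres.Certs

theorem facts8 : allRange (checkFact Data.theLog) 16001 2000 = true := by decide +kernel

theorem facts9 : allRange (checkFact Data.theLog) 18001 2000 = true := by decide +kernel

theorem facts10 : allRange (checkFact Data.theLog) 20001 2000 = true := by decide +kernel

theorem facts11 : allRange (checkFact Data.theLog) 22001 2000 = true := by decide +kernel

end Cfsg.Agent.M24Pres.Certs
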