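import Cfsg.Agent.Lib.M24Pres.Data.Log

/-! Checks, part 3 (generated by tools/j4/m24side/gen.py). -/

set_option autoImplicit false
set_option maxRecDepth 100000

namespace Cfsg.Agent.M24Pres.Certs

theorem facts12 : allRange (checkFact Data.theLog) 24001 2000 = true := by decide +kernel

theorem facts13 : allRange (checkFact Data.theLog) 26001 2000 = true := by decide +kernel

theorem facts14 : allRange (checkFact Data.theLog) 28001 2000 = true := by decide +kernel

theorem facts15 : allRange (checkFact Data.theLog) 30001 2000 = true := by decide +kernel

end Cfsg.Agent.M24Pres.Certs
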