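import Cfsg.Agent.Lib.M24Pres.Data.Log

/-! Checks, part 5 (generated by tools/j4/m24side/gen.py). -/

set_option autoImplicit false
set_option maxRecDepth 100000

namespace Cfsg.Agent.M24Pres.Certs

theorem facts20 : allRange (checkFact Data.theLog) 40001 2000 = true := by decide +kernel

theorem facts21 : allRange (checkFact Data.theLog) 42001 2000 = true := by decide +kernel

theorem facts22 : allRange (checkFact Data.theLog) 44001 2000 = true := by decide +kernel

theorem facts23 : allRange (checkFact Data.theLog) 46001 2000 = true := by decide +kernel

end Cfsg.Agent.M24Pres.Certs
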