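import Cfsg.Agent.Lib.M24Pres.Data.Log

/-! Checks, part 7 (generated by tools/j4/m24side/gen.py). -/

set_option autoImplicit false
set_option maxRecDepth 100000

namespace Cfsg.Agent.M24Pres.Certs

theorem facts28 : allRange (checkFact Data.theLog) 56001 2000 = true := by decide +kernel

theorem facts29 : allRange (checkFact Data.theLog) 58001 2000 = true := by decide +kernel

theorem facts30 : allRange (checkFact Data.theLog) 60001 2000 = true := by decide +kernel

theorem facts31 : allRange (checkFact Data.theLog) 62001 2000 = true := by decide +kernel

end Cfsg.Agent.M24Pres.Certs
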