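import Cfsg.Agent.Lib.M24Pres.Certs.Facts0
import Cfsg.Agent.Lib.M24Pres.Certs.Facts1
import Cfsg.Agent.Lib.M24Pres.Certs.Facts2
import Cfsg.Agent.Lib.M24Pres.Certs.Facts3
import Cfsg.Agent.Lib.M24Pres.Certs.Facts4
import Cfsg.Agent.Lib.M24Pres.Certs.Facts5
import Cfsg.Agent.Lib.M24Pres.Certs.Facts6
import Cfsg.Agent.Lib.M24Pres.Certs.Facts7
import Cfsg.Agent.Lib.M24Pres.Certs.Facts8
import Cfsg.Agent.Lib.M24Pres.Certs.Facts9
import Cfsg.Agent.Lib.M24Pres.Certs.Facts10

/-! All checks of this kind (generated by tools/j4/m24side/gen.py). -/

set_option autoImplicit false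

namespace Cfsg.Agent.M24Pres.Certs

theorem facts_all : ∀ j, 1 ≤ j → j < 86575 → (checkFact Data.theLog) j = true := by
  intro j h1 h2
  rcases Nat.lt_or_ge j 2001 with h | h
  · exact allRange_spec facts0 j (by omega) (by omega)
  rcases Nat.lt_or_ge j 4001 with h | h
  · exact allRange_spec facts1 j (by omega) (by omega)
  rcases Nat.lt_or_ge j 6001 with h | h
  · exact allRange_spec facts2 j (by omega) (by omega)
  rcases Nat.lt_or_ge j 8001 with h | h
  · exact allRange_spec facts3 j (by omega) (by omega)
  rcases Nat.lt_or_ge j 10001 with h | h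
  · exact allRange_spec facts4 j (by omega) (by omega)
  rcases Nat.lt_or_ge j 12001 with h | h
  · exact allRange_spec facts5 j (by omega) (by omega)
  rcases Nat.lt_or_ge j 14001 with h | h
  · exact allRange_spec facts6 j (by omega) (by omega)
  rcases Nat.lt_or_ge j 16001 with h | h
  · exact allRange_spec facts7 j (by omega) (by omega)
  rcases Nat.lt_or_ge j 18001 with h | h
  · exact allRange_spec facts8 j (by omega) (by omega)
  rcases Nat.lt_or_ge j 20001 with h | h
  · exact allRange_spec facts9 j (by omega) (by omega)
  rcases Nat.lt_or_ge j 22001 with h | h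
  · exact allRange_spec facts10 j (by omega) (by omega)
  rcases Nat.lt_or_ge j 24001 with h | h
  · exact allRange_spec facts11 j (by omega) (by omega)
  rcases Nat.lt_or_ge j 26001 with h | h
  · exact allRange_spec facts12 j (by omega) (by omega)
  rcases Nat.lt_or_ge j 28001 with h | h
  · exact allRange_spec facts13 j (by omega) (by omega)
  rcases Nat.lt_or_ge j 30001 with h | h
  · exact allRange_spec facts14 j (by omega) (by omega)
  rcases Nat.lt_or_ge j 32001 with h | h
  · exact allRange_spec facts15 j (by omega) (by omega)
  rcases Nat.lt_or_ge j 34001 with h | h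
  · exact allRange_spec facts16 j (by omega) (by omega)
  rcases Nat.lt_or_ge j 36001 with h | h
  · exact allRange_spec facts17 j (by omega) (by omega)
  rcases Nat.lt_or_ge j 38001 with h | h
  · exact allRange_spec facts18 j (by omega) (by omega)
  rcases Nat.lt_or_ge j 40001 with h | h
  · exact allRange_spec facts19 j (by omega) (by omega)
  rcases Nat.lt_or_ge j 42001 with h | h
  · exact allRange_spec facts20 j (by omega) (by omega)
  rcases Nat.lt_or_ge j 44001 with h | h
  · exact allRange_spec facts21 j (by omega) (by omega)
  rcases Nat.lt_or_ge j 46001 with h | h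
  · exact allRange_spec facts22 j (by omega) (by omega)
  rcases Nat.lt_or_ge j 48001 with h | h
  · exact allRange_spec facts23 j (by omega) (by omega)
  rcases Nat.lt_or_ge j 50001 with h | h
  · exact allRange_spec facts24 j (by omega) (by omega)
  rcases Nat.lt_or_ge j 52001 with h | h
  · exact allRange_spec facts25 j (by omega) (by omega)
  rcases Nat.lt_or_ge j 54001 with h | h
  · exact allRange_spec facts26 j (by omega) (by omega)
  rcases Nat.lt_or_ge j 56001 with h | h
  · exact allRange_spec facts27 j (by omega) (by omega)
  rcases Nat.lt_or_ge j 58001 with h | h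
  · exact allRange_spec facts28 j (by omega) (by omega)
  rcases Nat.lt_or_ge j 60001 with h | h
  · exact allRange_spec facts29 j (by omega) (by omega)
  rcases Nat.lt_or_ge j 62001 with h | h
  · exact allRange_spec facts30 j (by omega) (by omega)
  rcases Nat.lt_or_ge j 64001 with h | h
  · exact allRange_spec facts31 j (by omega) (by omega)
  rcases Nat.lt_or_ge j 66001 with h | h
  · exact allRange_spec facts32 j (by omega) (by omega)
  rcases Nat.lt_or_ge j 68001 with h | h
  · exact allRange_spec facts33 j (by omega) (by omega)
  rcases Nat.lt_or_ge j 70001 with h | h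
  · exact allRange_spec facts34 j (by omega) (by omega)
  rcases Nat.lt_or_ge j 72001 with h | h
  · exact allRange_spec facts35 j (by omega) (by omega)
  rcases Nat.lt_or_ge j 74001 with h | h
  · exact allRange_spec facts36 j (by omega) (by omega)
  rcases Nat.lt_or_ge j 76001 with h | h
  · exact allRange_spec facts37 j (by omega) (by omega)
  rcases Nat.lt_or_ge j 78001 with h | h
  · exact allRange_spec facts38 j (by omega) (by omega)
  rcases Nat.lt_or_ge j 80001 with h | h
  · exact allRange_spec facts39 j (by omega) (by omega)
  rcases Nat.lt_or_ge j 82001 with h | h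
  · exact allRange_spec facts40 j (by omega) (by omega)
  rcases Nat.lt_or_ge j 84001 with h | h
  · exact allRange_spec facts41 j (by omega) (by omega)
  rcases Nat.lt_or_ge j 86001 with h | h
  · exact allRange_spec facts42 j (by omega) (by omega)
  rcases Nat.lt_or_ge j 86575 with h | h
  · exact allRange_spec facts43 j (by omega) (by omega)
  omega

end Cfsg.Agent.M24Pres.Certs
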