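import Cfsg.Agent.Lib.M24Pres.Data.Tab

/-! Checks, part 1 (generated by tools/j4/m24side/gen.py). -/

set_option autoImplicit false
set_option maxRecDepth 100000

namespace Cfsg.Agent.M24Pres.Certs

theorem roots8 : allRange (Table.check Data.table) 8000 1000 = true := by decide +kernel

theorem roots9 : allRange (Table.check Data.table) 9000 1000 = true := by decide +kernel

theorem roots10 : allRange (Table.check Data.table) 10000 1000 = true := by decide +kernel

theorem roots11 : allRange (Table.check Data.table) 11000 1000 = true := by decide +kernel

theorem roots12 : allRange (Table.check Data.table) 12000 1000 = true := by decide +kernel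

theorem roots13 : allRange (Table.check Data.table) 13000 1000 = true := by decide +kernel

theorem roots14 : allRange (Table.check Data.table) 14000 1000 = true := by decide +kernel

theorem roots15 : allRange (Table.check Data.table) 15000 1000 = true := by decide +kernel

end Cfsg.Agent.M24Pres.Certs
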