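import Cfsg.Agent.Lib.M24Pres.Data.Tab

/-! Checks, part 2 (generated by tools/j4/m24side/gen.py). -/

set_option autoImplicit false
set_option maxRecDepth 100000

namespace Cfsg.Agent.M24Pres.Certs

theorem roots16 : allRange (Table.check Data.table) 16000 1000 = true := by decide +kernel

theorem roots17 : allRange (Table.check Data.table) 17000 1000 = true := by decide +kernel

theorem roots18 : allRange (Table.check Data.table) 18000 1000 = true := by decide +kernel

theorem roots19 : allRange (Table.check Data.table) 19000 1000 = true := by decide +kernel

theorem roots20 : allRange (Table.check Data.table) 20000 1000 = true := by decide +kernel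

theorem roots21 : allRange (Table.check Data.table) 21000 1000 = true := by decide +kernel

theorem roots22 : allRange (Table.check Data.table) 22000 1000 = true := by decide +kernel

theorem roots23 : allRange (Table.check Data.table) 23000 1000 = true := by decide +kernel

end Cfsg.Agent.M24Pres.Certs
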