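import Cfsg.Agent.Lib.M24Pres.Data.Tab

/-! Checks, part 3 (generated by tools/j4/m24side/gen.py). -/

set_option autoImplicit false
set_option maxRecDepth 100000

namespace Cfsg.Agent.M24Pres.Certs

theorem roots24 : allRange (Table.check Data.table) 24000 1000 = true := by decide +kernel

theorem roots25 : allRange (Table.check Data.table) 25000 1000 = true := by decide +kernel

theorem roots26 : allRange (Table.check Data.table) 26000 1000 = true := by decide +kernel

theorem roots27 : allRange (Table.check Data.table) 27000 1000 = true := by decide +kernel

theorem roots28 : allRange (Table.check Data.table) 28000 1000 = true := by decide +kernel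

theorem roots29 : allRange (Table.check Data.table) 29000 1000 = true := by decide +kernel

theorem roots30 : allRange (Table.check Data.table) 30000 1000 = true := by decide +kernel

theorem roots31 : allRange (Table.check Data.table) 31000 878 = true := by decide +kernel

end Cfsg.Agent.M24Pres.Certs
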