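import Cfsg.Agent.Lib.M24Pres.Certs.Roots0
import Cfsg.Agent.Lib.M24Pres.Certs.Roots1
import Cfsg.Agent.Lib.M24Pres.Certs.Roots2
import Cfsg.Agent.Lib.M24Pres.Certs.Roots3

/-! All checks of this kind (generated by tools/j4/m24side/gen.py). -/

set_option autoImplicit false

namespace Cfsg.Agent.M24Pres.Certs

theorem roots_all : ∀ j, 0 ≤ j → j < 31878 → (Table.check Data.table) j = true := by
  intro j h1 h2
  rcases Nat.lt_or_ge j 1000 with h | h
  · exact allRange_spec roots0 j (by omega) (by omega)
  rcases Nat.lt_or_ge j 2000 with h | h
  · exact allRange_spec roots1 j (by omega) (by omega)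
  rcases Nat.lt_or_ge j 3000 with h | h
  · exact allRange_spec roots2 j (by omega) (by omega)
  rcases Nat.lt_or_ge j 4000 with h | h
  · exact allRange_spec roots3 j (by omega) (by omega)
  rcases Nat.lt_or_ge j 5000 with h | h
  · exact allRange_spec roots4 j (by omega) (by omega)
  rcases Nat.lt_or_ge j 6000 with h | h
  · exact allRange_spec roots5 j (by omega) (by omega)
  rcases Nat.lt_or_ge j 7000 with h | h
  · exact allRange_spec roots6 j (by omega) (by omega)
  rcases Nat.lt_or_ge j 8000 with h | h
  · exact allRange_spec roots7 j (by omega) (by omega)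
  rcases Nat.lt_or_ge j 9000 with h | h
  · exact allRange_spec roots8 j (by omega) (by omega)
  rcases Nat.lt_or_ge j 10000 with h | h
  · exact allRange_spec roots9 j (by omega) (by omega)
  rcases Nat.lt_or_ge j 11000 with h | h
  · exact allRange_spec roots10 j (by omega) (by omega)
  rcases Nat.lt_or_ge j 12000 with h | h
  · exact allRange_spec roots11 j (by omega) (by omega)
  rcases Nat.lt_or_ge j 13000 with h | h
  · exact allRange_spec roots12 j (by omega) (by omega)
  rcases Nat.lt_or_ge j 14000 with h | h
  · exact allRange_spec roots13 j (by omega) (by omega)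
  rcases Nat.lt_or_ge j 15000 with h | h
  · exact allRange_spec roots14 j (by omega) (by omega)
  rcases Nat.lt_or_ge j 16000 with h | h
  · exact allRange_spec roots15 j (by omega) (by omega)
  rcases Nat.lt_or_ge j 17000 with h | h
  · exact allRange_spec roots16 j (by omega) (by omega)
  rcases Nat.lt_or_ge j 18000 with h | h
  · exact allRange_spec roots17 j (by omega) (by omega)
  rcases Nat.lt_or_ge j 19000 with h | h
  · exact allRange_spec roots18 j (by omega) (by omega)
  rcases Nat.lt_or_ge j 20000 with h | h
  · exact allRange_spec roots19 j (by omega) (by omega)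
  rcases Nat.lt_or_ge j 21000 with h | h
  · exact allRange_spec roots20 j (by omega) (by omega)
  rcases Nat.lt_or_ge j 22000 with h | h
  · exact allRange_spec roots21 j (by omega) (by omega)
  rcases Nat.lt_or_ge j 23000 with h | h
  · exact allRange_spec roots22 j (by omega) (by omega)
  rcases Nat.lt_or_ge j 24000 with h | h
  · exact allRange_spec roots23 j (by omega) (by omega)
  rcases Nat.lt_or_ge j 25000 with h | h
  · exact allRange_spec roots24 j (by omega) (by omega)
  rcases Nat.lt_or_ge j 26000 with h | h
  · exact allRange_spec roots25 j (by omega) (by omega)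
  rcases Nat.lt_or_ge j 27000 with h | h
  · exact allRange_spec roots26 j (by omega) (by omega)
  rcases Nat.lt_or_ge j 28000 with h | h
  · exact allRange_spec roots27 j (by omega) (by omega)
  rcases Nat.lt_or_ge j 29000 with h | h
  · exact allRange_spec roots28 j (by omega) (by omega)
  rcases Nat.lt_or_ge j 30000 with h | h
  · exact allRange_spec roots29 j (by omega) (by omega)
  rcases Nat.lt_or_ge j 31000 with h | h
  · exact allRange_spec roots30 j (by omega) (by omega)
  rcases Nat.lt_or_ge j 31878 with h | h
  · exact allRange_spec roots31 j (by omega) (by omega)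
  omega

end Cfsg.Agent.M24Pres.Certs
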