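import Cfsg.Agent.Lib.M24Pres.Data.Tab

/-! Checks, part 0 (generated by tools/j4/m24side/gen.py). -/

set_option autoImplicit false
set_option maxRecDepth 100000

namespace Cfsg.Agent.M24Pres.Certs

theorem roots0 : allRange (Table.check Data.table) 0 1000 = true := by decide +kernel

theorem roots1 : allRange (Table.check Data.table) 1000 1000 = true := by decide +kernel

theorem roots2 : allRange (Table.check Data.table) 2000 1000 = true := by decide +kernel

theorem roots3 : allRange (Table.check Data.table) 3000 1000 = true := by decide +kernel

theorem roots4 : allRange (Table.check Data.table) 4000 1000 = true := by decide +kernel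

theorem roots5 : allRange (Table.check Data.table) 5000 1000 = true := by decide +kernel

theorem roots6 : allRange (Table.check Data.table) 6000 1000 = true := by decide +kernel

theorem roots7 : allRange (Table.check Data.table) 7000 1000 = true := by decide +kernel

end Cfsg.Agent.M24Pres.Certs
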